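/-
Kernel arithmetic of words in the third Janko group given by coded matrices.

Main results (namespace `Cfsg.Agent.MultiplierJThree`): `wcode`, `eqWord`, `eqWord_iff`, `lettersOk`.
-/
import Cfsg.Agent.Lib.JankoThree.Center
import Cfsg.Agent.Lib.PcCover.Collect

set_option autoImplicit false

namespace Cfsg.Agent.MultiplierJThree

open Cfsg.Agent.JankoThree Cfsg.Agent.CosetEnum
open Cfsg.Spor (F9)
open scoped MatrixGroups

/-- The code of a word in the given letters. -/
noncomputable def wcode (gens : List ℕ) (w : List ℕ) : ℕ :=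
  List.rec (motive := fun _ => ℕ) oneN (fun i _ ih => force ih fun P => mulN (gens.getD i oneN) P) w

/-- The code of a word in the defining generators. -/
noncomputable def gcode (w : List ℕ) : ℕ :=
  List.rec (motive := fun _ => ℕ) oneN (fun i _ ih => force ih fun P => mulN (genN i) P) w

/-- A code cut down to its 162 bits. -/
noncomputable def norm162 (A : ℕ) : ℕ := Nat.land A (2 ^ 162 - 1)

/-- Two codes agree up to a scalar. -/
noncomputable def eqC (A B : ℕ) : Bool :=
  force (norm162 B) fun b =>
    Nat.beq (norm162 A) b || (Nat.beq (norm162 (smulN 2 A)) b || Nat.beq (norm162 (smulN 3 A)) b)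

/-- Equality of two words in the simple group. -/
noncomputable def eqWord (gens : List ℕ) (u w : List ℕ) : Bool :=
  eqC (wcode gens u) (wcode gens w)

/-- The letters are the listed words in the defining generators. -/
noncomputable def lettersOk (gens : List ℕ) (words : List (List ℕ)) : Bool :=
  (List.range gens.length).all fun i =>
    (words.getD i []).all (fun n => Nat.blt n 43) && Nat.beq (gcode (words.getD i [])) (gens.getD i oneN)

theorem norm162_lt (A : ℕ) : norm162 A < 2 ^ 162 :=
  Nat.lt_of_le_of_lt Nat.and_le_right (by norm_num)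

variable {F : Type*} [Field F] {ω : F}

theorem toMat_norm162 (A : ℕ) : toMat ω (norm162 A) = toMat ω A := by
  ext w z
  have := ix_lt w
  have := ix_lt z
  simp only [toMat, entF, norm162]
  rw [show Nat.land A (2 ^ 162 - 1) = A &&& (2 ^ 162 - 1) from rfl, Nat.testBit_land, Nat.testBit_land,
    Nat.testBit_two_pow_sub_one, Nat.testBit_two_pow_sub_one,
    decide_eq_true (show 9 * ix w + ix z < 162 by omega), decide_eq_true (show 81 + 9 * ix w + ix z < 162 by omega),
    Bool.and_true, Bool.and_true]

variable (h2 : (2 : F) = 0) (hω : ω ^ 2 + ω + 1 = 0)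
include h2 hω

theorem eqC_iff (A B : ℕ) : eqC A B = true ↔ ∃ i : ℕ, toMat ω B = ω ^ i • toMat ω A := by
  constructor
  · intro h
    simp only [eqC, force_eq, Bool.or_eq_true, Nat.beq_eq] at h
    rcases h with h | h | h
    · exact ⟨0, by rw [pow_zero, one_smul, ← toMat_norm162 (ω := ω) B, ← h, toMat_norm162]⟩
    · refine ⟨1, ?_⟩
      rw [← toMat_norm162 (ω := ω) B, ← h, toMat_norm162, toMat_smulN h2 hω 2 A (by simp), psi_two, pow_one]
    · refine ⟨2, ?_⟩
      rw [← toMat_norm162 (ω := ω) B, ← h, toMat_norm162, toMat_smulN h2 hω 3 A (by simp),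
        psi_pow h2 hω (by simp)]
  · rintro ⟨i, hi⟩
    have hi' : toMat ω B = ω ^ (i % 3) • toMat ω A := by
      conv_lhs => rw [hi, ← Nat.mod_add_div i 3, pow_add, pow_mul, omega_cube h2 hω, one_pow, mul_one]
    simp only [eqC, force_eq, Bool.or_eq_true, Nat.beq_eq]
    have key : ∀ C, toMat ω B = toMat ω C → norm162 C = norm162 B := fun C hC =>
      toMat_inj h2 hω (norm162_lt C) (norm162_lt B) (by rw [toMat_norm162, toMat_norm162, hC])
    rcases (show i % 3 = 0 ∨ i % 3 = 1 ∨ i % 3 = 2 by omega) with e | e | e <;> rw [e] at hi'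
    · exact Or.inl (key A (by rw [hi', pow_zero, one_smul]))
    · exact Or.inr (Or.inl (key _ (by rw [hi', toMat_smulN h2 hω 2 A (by simp), psi_two, pow_one])))
    · exact Or.inr (Or.inr (key _ (by rw [hi', toMat_smulN h2 hω 3 A (by simp), psi_pow h2 hω (by simp)])))

theorem inD_gcode : ∀ w : List ℕ, (∀ n ∈ w, n < 43) → InD h2 hω (gcode w)
  | [], _ => inD_one h2 hω
  | n :: w, hw => by
    show InD h2 hω (force (gcode w) fun P => mulN (genN n) P)
    rw [force_eq]
    exact (inD_genN h2 hω (hw n List.mem_cons_self)).mul h2 hω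
      (inD_gcode w fun m hm => hw m (List.mem_cons_of_mem _ hm))

theorem inD_getD {gens : List ℕ} {words : List (List ℕ)} (h : lettersOk gens words = true) (i : ℕ) :
    InD h2 hω (gens.getD i oneN) := by
  by_cases hi : i < gens.length
  · have := List.all_eq_true.1 h i (List.mem_range.2 hi)
    simp only [Bool.and_eq_true, List.all_eq_true, Nat.blt_eq, Nat.beq_eq] at this
    rw [← this.2]
    exact inD_gcode h2 hω _ this.1
  · rw [List.getD_eq_default _ _ (by omega)]
    exact inD_one h2 hω

variable {gens : List ℕ} {words : List (List ℕ)} (h : lettersOk gens words = true)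
include h

theorem exists_letter (i : ℕ) :
    ∃ u : Spor.threeJ3 F ω, ((u : GL F9 F) : Matrix F9 F9 F) = toMat ω (gens.getD i oneN) := by
  obtain ⟨g, hg, e⟩ := inD_getD h2 hω h i
  exact ⟨⟨g, by rw [threeJ3_eq h2 hω]; exact hg⟩, e⟩

/-- The letters in the triple cover. -/
noncomputable def lift (i : ℕ) : Spor.threeJ3 F ω := (exists_letter h2 hω h i).choose

/-- The letters in the simple group. -/
noncomputable def letter (i : ℕ) : Spor.J3 F ω := QuotientGroup.mk (lift h2 hω h i)

theorem wp_lift (w : List ℕ) :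
    ((PcCover.wp (lift h2 hω h) w : Spor.threeJ3 F ω) : GL F9 F).val = toMat ω (wcode gens w) := by
  induction w with
  | nil =>
    rw [PcCover.wp_nil]
    show (1 : Matrix F9 F9 F) = toMat ω oneN
    rw [toMat_oneN]
  | cons i w ih =>
    rw [PcCover.wp_cons, Subgroup.coe_mul, Units.val_mul, ih,
      show ((lift h2 hω h i : GL F9 F) : Matrix F9 F9 F) = _ from (exists_letter h2 hω h i).choose_spec]
    show _ = toMat ω (force (wcode gens w) fun P => mulN (gens.getD i oneN) P)
    rw [force_eq, toMat_mulN h2 hω]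

theorem wp_letter (w : List ℕ) :
    PcCover.wp (letter h2 hω h) w = (QuotientGroup.mk (PcCover.wp (lift h2 hω h) w) : Spor.J3 F ω) :=
  (PcCover.wp_map (σ := QuotientGroup.mk' (Subgroup.center (Spor.threeJ3 F ω)))
    (a := lift h2 hω h) (g := letter h2 hω h) (fun _ => rfl) w).symm

theorem eqWord_iff (u w : List ℕ) :
    eqWord gens u w = true ↔ PcCover.wp (letter h2 hω h) u = PcCover.wp (letter h2 hω h) w := by
  rw [wp_letter, wp_letter, eqWord, eqC_iff h2 hω, ← wp_lift h2 hω h u, ← wp_lift h2 hω h w, QuotientGroup.eq,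
    ← Subgroup.mem_map_iff_mem (f := (Spor.threeJ3 F ω).subtype) Subtype.val_injective, center_map h2 hω]
  set a := PcCover.wp (lift h2 hω h) u with ha
  set b := PcCover.wp (lift h2 hω h) w with hb
  constructor
  · rintro ⟨i, hi⟩
    refine Subgroup.mem_zpowers_iff.2 ⟨i, ?_⟩
    rw [zpow_natCast]
    have : (b : GL F9 F) = (a : GL F9 F) * scalarUnit hω ^ i := Units.ext (by
      rw [Units.val_mul, scalarUnit_pow h2 hω, Matrix.mul_smul, Matrix.mul_one, hi])
    show scalarUnit hω ^ i = ((a⁻¹ * b : Spor.threeJ3 F ω) : GL F9 F)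
    rw [Subgroup.coe_mul, Subgroup.coe_inv, this, inv_mul_cancel_left]
  · intro hm
    obtain ⟨i, hi⟩ := Subgroup.mem_zpowers_iff.1 hm
    have hfin : IsOfFinOrder (scalarUnit hω) :=
      isOfFinOrder_iff_pow_eq_one.2 ⟨3, by norm_num, scalar_pow_three h2 hω⟩
    obtain ⟨k, hk⟩ := (hfin.mem_powers_iff_mem_zpowers).2 (Subgroup.mem_zpowers_iff.2 ⟨i, rfl⟩)
    refine ⟨k, ?_⟩
    have : (b : GL F9 F) = (a : GL F9 F) * scalarUnit hω ^ k := by
      have hk' : scalarUnit hω ^ k = ((a⁻¹ * b : Spor.threeJ3 F ω) : GL F9 F) := hk.trans hi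
      rw [hk', Subgroup.coe_mul, Subgroup.coe_inv, mul_inv_cancel_left]
    rw [this, Units.val_mul, scalarUnit_pow h2 hω, Matrix.mul_smul, Matrix.mul_one]

end Cfsg.Agent.MultiplierJThree
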