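/-
Certificates bounding the 2- and 3-parts of the multiplier of J₃, and words for their letters.

Main results: `two`, `three`.
-/
import Cfsg.Agent.Lib.PcCover.Collect

set_option autoImplicit false

namespace Cfsg.Agent.MultiplierJThree.Data

/-- Words in the defining generators. -/
def twoWords : List (List ℕ) := [[16, 42, 4, 11, 32, 11, 11, 4, 4, 42, 16, 16, 32, 16, 42, 4, 11, 32, 11, 11, 4, 4, 42, 16, 16, 32, 16, 42, 4, 11, 32, 2, 2, 34, 34, 34, 34, 34, 34, 34, 42, 23, 23, 23, 23, 23, 23, 23, 23, 17, 17, 32, 17, 23, 42, 34, 2, 32, 2, 2, 34, 34, 34, 34, 34, 34, 34, 42, 23, 23, 23, 23, 23, 23, 23, 23, 17, 17, 32, 17, 23, 42, 34, 2, 32, 2, 2, 34, 34, 34, 34, 34, 34, 34, 42, 23, 23, 23, 23, 23, 23, 23, 23, 17, 17, 32, 17,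 23, 42, 34, 2, 32, 2, 2, 34, 34, 34, 34, 34, 34, 34, 42, 23, 23, 23, 23, 23, 23, 23, 23, 17, 17, 32, 17, 23, 42, 34, 2, 32, 2, 2, 34, 34, 34, 34, 34, 34, 34, 42, 23, 23, 23, 23, 23, 23, 23, 23, 17, 17, 32, 17, 23, 42, 34, 2, 32, 2, 2, 34, 34, 34, 34, 34, 34, 34, 42, 23, 23, 23, 23, 23, 23, 23, 23, 17, 17, 32, 17, 23, 42, 34, 2, 16, 42, 4, 11, 32, 11, 11, 4, 4, 42, 16, 16, 32, 16, 42, 4, 11, 32, 11, 11, 4, 4, 42, 16, 16, 32, 16, 42, 4, 11, 16, 42, 4, 11, 32, 11, 11, 4, 4, 42, 16, 16, 32, 16, 42, 4, 11, 32, 11, 11, 4, 4, 42, 16, 16, 32, 16, 42, 4, 11, 32, 2, 2, 34, 34, 34, 34, 34, 34, 34, 42, 23, 23, 23, 23, 23, 23, 23, 23, 17, 17, 32, 17, 23, 42, 34, 2, 32, 2, 2, 34, 34, 34, 34, 34, 34, 34, 42, 23, 23, 23, 23, 23, 23, 23, 23,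 17, 17, 32, 17, 23, 42, 34, 2, 32, 2, 2, 34, 34, 34, 34, 34, 34, 34, 42, 23, 23, 23, 23, 23, 23, 23, 23, 17, 17, 32, 17, 23, 42, 34, 2, 32, 2, 2, 34, 34, 34, 34, 34, 34, 34, 42, 23, 23, 23, 23, 23, 23, 23, 23, 17, 17, 32, 17, 23, 42, 34, 2, 32, 2, 2, 34, 34, 34, 34, 34, 34, 34, 42, 23, 23, 23, 23, 23, 23, 23, 23, 17, 17, 32, 17, 23, 42, 34, 2, 32, 2, 2, 34, 34, 34, 34, 34, 34, 34, 42, 23, 23, 23, 23, 23, 23, 23, 23, 17, 17, 32, 17, 23, 42, 34, 2, 16, 42, 4, 11, 32, 11, 11, 4, 4, 42, 16, 16, 32, 16, 42, 4, 11, 32, 11, 11, 4, 4, 42, 16, 16, 32, 16, 42, 4, 11],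
  [32, 2, 2, 34, 34, 34, 34, 34, 34, 34, 42, 23, 23, 23, 23, 23, 23, 23, 23, 17, 17, 32, 17, 23, 42, 34, 2, 32, 2, 2, 34, 34, 34, 34, 34, 34, 34, 42, 23, 23, 23, 23, 23, 23, 23, 23, 17, 17, 32, 17, 23, 42, 34, 2, 32, 2, 2, 34, 34, 34, 34, 34, 34, 34, 42, 23, 23, 23, 23, 23, 23, 23, 23, 17, 17, 32, 17, 23, 42, 34, 2, 32, 2, 2, 34, 34, 34, 34, 34, 34, 34, 42, 23, 23, 23, 23, 23, 23, 23, 23, 17, 17, 32, 17, 23, 42, 34, 2, 32, 2, 2, 34, 34, 34, 34, 34, 34, 34, 42, 23, 23, 23, 23, 23, 23, 23, 23, 17, 17, 32, 17, 23, 42, 34, 2, 32, 2, 2, 34, 34, 34, 34, 34, 34, 34, 42, 23, 23, 23, 23, 23, 23, 23, 23, 17, 17, 32, 17, 23, 42, 34, 2],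
  [16, 25, 35, 7, 32, 7, 7, 35, 25, 25, 25, 25, 25, 25, 25, 25, 16, 16, 32, 16, 25, 35, 7, 32, 7, 7, 35, 25, 25, 25, 25, 25, 25, 25, 25, 16, 16, 32, 16, 25, 35, 7, 32, 7, 7, 35, 25, 25, 25, 25, 25, 25, 25, 25, 16, 16, 32, 16, 25, 35, 7, 32, 7, 7, 35, 25, 25, 25, 25, 25, 25, 25, 25, 16, 16, 32, 16, 25, 35, 7, 16, 42, 4, 11, 32, 11, 11, 4, 4, 42, 16, 16, 32, 16, 42, 4, 11, 32, 11, 11, 4, 4, 42, 16, 16, 32, 16, 42, 4, 11, 16, 42, 4, 11, 32, 11, 11, 4, 4, 42, 16, 16, 32, 16, 42, 4, 11, 32, 11, 11, 4, 4, 42, 16, 16, 32, 16, 42, 4, 11, 16, 25, 35, 7, 32, 7, 7, 35, 25, 25, 25, 25, 25, 25, 25, 25, 16, 16, 32, 16, 25, 35, 7, 32, 7, 7, 35, 25, 25, 25, 25, 25, 25, 25, 25, 16, 16, 32, 16, 25, 35, 7, 32, 7, 7, 35, 25, 25, 25, 25, 25, 25,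 25, 25, 16, 16, 32, 16, 25, 35, 7, 32, 7, 7, 35, 25, 25, 25, 25, 25, 25, 25, 25, 16, 16, 32, 16, 25, 35, 7, 16, 25, 35, 7, 32, 7, 7, 35, 25, 25, 25, 25, 25, 25, 25, 25, 16, 16, 32, 16, 25, 35, 7, 32, 7, 7, 35, 25, 25, 25, 25, 25, 25, 25, 25, 16, 16, 32, 16, 25, 35, 7, 32, 7, 7, 35, 25, 25, 25, 25, 25, 25, 25, 25, 16, 16, 32, 16, 25, 35, 7, 32, 7, 7, 35, 25, 25, 25, 25, 25, 25, 25, 25, 16, 16, 32, 16, 25, 35, 7, 16, 25, 35, 7, 32, 7, 7, 35, 25, 25, 25, 25, 25, 25, 25, 25, 16, 16, 32, 16, 25, 35, 7, 32, 7, 7, 35, 25, 25, 25, 25, 25, 25, 25, 25, 16, 16, 32, 16, 25, 35, 7, 32, 7, 7, 35, 25, 25, 25, 25, 25, 25, 25, 25, 16, 16, 32, 16, 25, 35, 7, 32, 7, 7, 35, 25, 25, 25, 25, 25, 25, 25, 25, 16, 16, 32, 16, 25, 35, 7, 16, 25, 35,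 7, 32, 7, 7, 35, 25, 25, 25, 25, 25, 25, 25, 25, 16, 16, 32, 16, 25, 35, 7, 32, 7, 7, 35, 25, 25, 25, 25, 25, 25, 25, 25, 16, 16, 32, 16, 25, 35, 7, 32, 7, 7, 35, 25, 25, 25, 25, 25, 25, 25, 25, 16, 16, 32, 16, 25, 35, 7, 32, 7, 7, 35, 25, 25, 25, 25, 25, 25, 25, 25, 16, 16, 32, 16, 25, 35, 7],
  [16, 25, 35, 7, 32, 7, 7, 35, 25, 25, 25, 25, 25, 25, 25, 25, 16, 16, 32, 16, 25, 35, 7, 32, 7, 7, 35, 25, 25, 25, 25, 25, 25, 25, 25, 16, 16, 32, 16, 25, 35, 7, 32, 7, 7, 35, 25, 25, 25, 25, 25, 25, 25, 25, 16, 16, 32, 16, 25, 35, 7, 32, 7, 7, 35, 25, 25, 25, 25, 25, 25, 25, 25, 16, 16, 32, 16, 25, 35, 7, 16, 42, 4, 11, 32, 11, 11, 4, 4, 42, 16, 16, 32, 16, 42, 4, 11, 32, 11, 11, 4, 4, 42, 16, 16, 32, 16, 42, 4, 11, 16, 25, 35, 7,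 32, 7, 7, 35, 25, 25, 25, 25, 25, 25, 25, 25, 16, 16, 32, 16, 25, 35, 7, 32, 7, 7, 35, 25, 25, 25, 25, 25, 25, 25, 25, 16, 16, 32, 16, 25, 35, 7, 32, 7, 7, 35, 25, 25, 25, 25, 25, 25, 25, 25, 16, 16, 32, 16, 25, 35, 7, 32, 7, 7, 35, 25, 25, 25, 25, 25, 25, 25, 25, 16, 16, 32, 16, 25, 35, 7, 16, 42, 4, 11, 32, 11, 11, 4, 4, 42, 16, 16, 32, 16, 42, 4, 11, 32, 11, 11, 4, 4, 42, 16, 16, 32, 16, 42, 4, 11, 32, 2, 2, 34, 34, 34, 34, 34, 34, 34, 42, 23, 23, 23, 23, 23, 23, 23, 23, 17, 17, 32, 17, 23, 42, 34, 2, 32, 2, 2, 34, 34, 34, 34, 34, 34, 34, 42, 23, 23, 23, 23, 23, 23, 23, 23, 17, 17, 32, 17, 23, 42, 34, 2, 32, 2, 2, 34, 34, 34, 34, 34, 34, 34, 42, 23, 23, 23, 23, 23, 23, 23, 23, 17, 17, 32, 17, 23, 42, 34, 2, 32, 2, 2, 34,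 34, 34, 34, 34, 34, 34, 42, 23, 23, 23, 23, 23, 23, 23, 23, 17, 17, 32, 17, 23, 42, 34, 2, 32, 2, 2, 34, 34, 34, 34, 34, 34, 34, 42, 23, 23, 23, 23, 23, 23, 23, 23, 17, 17, 32, 17, 23, 42, 34, 2, 32, 2, 2, 34, 34, 34, 34, 34, 34, 34, 42, 23, 23, 23, 23, 23, 23, 23, 23, 17, 17, 32, 17, 23, 42, 34, 2, 16, 25, 35, 7, 32, 7, 7, 35, 25, 25, 25, 25, 25, 25, 25, 25, 16, 16, 32, 16, 25, 35, 7, 32, 7, 7, 35, 25, 25, 25, 25, 25, 25, 25, 25, 16, 16, 32, 16, 25, 35, 7, 32, 7, 7, 35, 25, 25, 25, 25, 25, 25, 25, 25, 16, 16, 32, 16, 25, 35, 7, 32, 7, 7, 35, 25, 25, 25, 25, 25, 25, 25, 25, 16, 16, 32, 16, 25, 35, 7, 16, 42, 4, 11, 32, 11, 11, 4, 4, 42, 16, 16, 32, 16, 42, 4, 11, 32, 11, 11, 4, 4, 42, 16, 16, 32, 16, 42, 4, 11],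
  [16, 42, 4, 11, 32, 11, 11, 4, 4, 42, 16, 16, 32, 16, 42, 4, 11, 32, 11, 11, 4, 4, 42, 16, 16, 32, 16, 42, 4, 11, 16, 42, 4, 11, 32, 11, 11, 4, 4, 42, 16, 16, 32, 16, 42, 4, 11, 32, 11, 11, 4, 4, 42, 16, 16, 32, 16, 42, 4, 11],
  [32, 2, 2, 34, 34, 34, 34, 34, 34, 34, 42, 23, 23, 23, 23, 23, 23, 23, 23, 17, 17, 32, 17, 23, 42, 34, 2, 32, 2, 2, 34, 34, 34, 34, 34, 34, 34, 42, 23, 23, 23, 23, 23, 23, 23, 23, 17, 17, 32, 17, 23, 42, 34, 2, 32, 2, 2, 34, 34, 34, 34, 34, 34, 34, 42, 23, 23, 23, 23, 23, 23, 23, 23, 17, 17, 32, 17, 23, 42, 34, 2, 32, 2, 2, 34, 34, 34, 34, 34, 34, 34, 42, 23, 23, 23, 23, 23, 23, 23, 23, 17, 17, 32, 17, 23, 42, 34, 2, 32, 2, 2, 34, 34, 34, 34, 34, 34, 34, 42, 23, 23, 23, 23, 23, 23, 23, 23, 17, 17,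 32, 17, 23, 42, 34, 2, 32, 2, 2, 34, 34, 34, 34, 34, 34, 34, 42, 23, 23, 23, 23, 23, 23, 23, 23, 17, 17, 32, 17, 23, 42, 34, 2, 16, 42, 4, 11, 32, 11, 11, 4, 4, 42, 16, 16, 32, 16, 42, 4, 11, 32, 11, 11, 4, 4, 42, 16, 16, 32, 16, 42, 4, 11, 16, 42, 4, 11, 32, 11, 11, 4, 4, 42, 16, 16, 32, 16, 42, 4, 11, 32, 11, 11, 4, 4, 42, 16, 16, 32, 16, 42, 4, 11, 32, 2, 2, 34, 34, 34, 34, 34, 34, 34, 42, 23, 23, 23, 23, 23, 23, 23, 23, 17, 17, 32, 17, 23, 42, 34, 2, 32, 2, 2, 34, 34, 34, 34, 34, 34, 34, 42, 23, 23, 23, 23, 23, 23, 23, 23, 17, 17, 32, 17, 23, 42, 34, 2, 32, 2, 2, 34, 34, 34, 34, 34, 34, 34, 42, 23, 23, 23, 23, 23, 23, 23, 23, 17, 17, 32, 17, 23, 42, 34, 2, 32, 2, 2, 34, 34, 34, 34, 34, 34, 34, 42, 23, 23, 23, 23, 23, 23,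 23, 23, 17, 17, 32, 17, 23, 42, 34, 2, 32, 2, 2, 34, 34, 34, 34, 34, 34, 34, 42, 23, 23, 23, 23, 23, 23, 23, 23, 17, 17, 32, 17, 23, 42, 34, 2, 32, 2, 2, 34, 34, 34, 34, 34, 34, 34, 42, 23, 23, 23, 23, 23, 23, 23, 23, 17, 17, 32, 17, 23, 42, 34, 2, 16, 42, 4, 11, 32, 11, 11, 4, 4, 42, 16, 16, 32, 16, 42, 4, 11, 32, 11, 11, 4, 4, 42, 16, 16, 32, 16, 42, 4, 11, 16, 42, 4, 11, 32, 11, 11, 4, 4, 42, 16, 16, 32, 16, 42, 4, 11, 32, 11, 11, 4, 4, 42, 16, 16, 32, 16, 42, 4, 11],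
  [32],
  [16, 42, 4, 11, 32, 11, 11, 4, 4, 42, 16, 16, 32, 16, 42, 4, 11, 32, 11, 11, 4, 4, 42, 16, 16, 32, 16, 42, 4, 11],
  [19, 35, 22, 2, 35, 19]]

/-- The letters. -/
def twoGens : List ℕ := [0x1571d1bd4dcb876cda7fd31d09e96391e635a5c4f,
  0xc45fd253d18b278ea54c2542ebc46837bcfbad5f,
  0x10301b00444298c10d09e2a2902618c42081407b1,
  0x82058080c121140887fd281947708d0a9b9557b1,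
  0x800800a0020021001001,
  0x1cb53c3c755637b4b67fdd479137593a2583c8fb1,
  0x10100210100200080801,
  0x4200401002802004001,
  0x29caad895e658f8b02355bc11a64c2bb74a5218a]

/-- The certificate. -/
def two : PcCover.Cert where
  n := 7
  rules := [([0, 0], []), ([1, 1], []), ([2, 2], [6]), ([3, 3], []), ([4, 4], [6]), ([5, 5], []), ([6, 6], []), ([1, 0], [0, 1, 2]), ([2, 0], [0, 2, 6]), ([2, 1], [1, 2, 6]), ([3, 0], [0, 3, 4, 5, 6]), ([3, 1], [1, 3]), ([3, 2], [2, 3, 5]), ([4, 0], [0, 4]), ([4, 1], [1, 4, 5, 6]), ([4, 2], [2, 4, 6]), ([4, 3], [3, 4, 6]), ([5, 0], [0, 5, 6]), ([5, 1], [1, 5]), ([5, 2], [2, 5]), ([5, 3], [3, 5]), ([5, 4], [4, 5]), ([6, 0], [0, 6]), ([6, 1], [1, 6]), ([6, 2], [2, 6]), ([6, 3], [3, 6]), ([6, 4], [4,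 6]), ([6, 5], [5, 6])]
  rels := [.cons [1] 0,
    .cons [1] 7,
    .cons [2] 0,
    .cons [2] 1,
    .cons [2] 2,
    .cons [2] 8,
    .cons [3] 0,
    .cons [3] 1,
    .cons [3] 2,
    .cons [3] 7,
    .cons [3] 8,
    .cons [3] 9,
    .cons [3] 10,
    .cons [3] 12,
    .cons [4] 0,
    .cons [4] 1,
    .cons [4] 2,
    .cons [4] 3,
    .cons [4] 4,
    .cons [4] 7,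
    .cons [4] 8,
    .cons [4] 10,
    .cons [4] 11,
    .fus 7 [4, 6] [0] [4, 6] [5],
    .fus 7 [0] [2, 4, 5] [5] [2, 5, 6],
    .fus 8 [3, 6] [1, 3] [3, 6] [5, 6]]
  cvec := []
  m := 1
  mcomb := []
  basis := [(2, [0, 0, 1, 0, 0, 0, 0, 2, 0, 0, 0, 0, 0, 0, 0, 0, 0, -1, 0, 0, 0, 0, 0, 0, 0, 0, 0, 0], [0, 3, 2, -7, 1, -7, -6, 0, 0, 1, 6, -2, 3, 0, -2, 0, 3, 3, 0, -7, 2, 7, 3, 2, 1, 1, 0]),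
    (4, [0, 0, 0, 0, 1, 0, 0, 0, 0, 0, 2, 0, 0, 0, -2, 0, 0, -1, 0, 0, 0, 0, 0, 0, 0, 0, 0, 0], [0, -2, -2, -3, -1, -8, -4, 3, 0, -4, 0, 6, 1, 2, -4, -2, -1, -2, 1, -16, -10, 9, 4, 2, 1, 0, 0]),
    (5, [0, 0, 0, 0, 0, 1, 0, 0, 0, 0, 0, 0, 0, 0, 2, 0, 0, -2, 0, 0, 0, 0, 0, 0, 0, 0, 0, 0], [0, -6, -6, 16, -3, 12, 13, 0, 0, -2, -12, 5, -7, 0, 4, 0, -5, -7, 0, 17, -7, -15, -7, -4, 0, 0, 0]),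
    (6, [0, 0, 0, 0, 0, 0, 1, 0, 0, 0, 0, 0, 0, 0, 0, 0, 0, 2, 0, 0, 0, 0, 0, 0, 0, 0, 0, 0], [0, 4, 4, -10, 2, -7, -8, 0, 0, 2, 8, -4, 4, 0, -2, 0, 4, 5, 0, -9, 6, 8, 4, 2, 0, 0, 0]),
    (8, [0, 0, 0, 0, 0, 0, 0, 0, 1, 0, 0, 0, 0, 0, 0, 0, 0, -1, 0, 0, 0, 0, 0, 0, 0, 0, 0, 0], [0, 2, 2, -7, 1, -8, -7, 0, 0, 1, 6, -2, 3, 0, -2, 0, 3, 3, 0, -8, 2, 8, 3, 2, 1, 1, 0]),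
    (9, [0, 0, 0, 0, 0, 0, 0, 0, 0, 1, 0, 0, 0, 0, 0, 0, 0, -1, 0, 0, 0, 0, 0, 0, 0, 0, 0, 0], [0, 1, 1, -7, 1, -9, -7, 0, 0, 1, 6, -2, 3, 0, -2, 0, 3, 3, 0, -8, 2, 8, 3, 2, 1, 1, 0]),
    (11, [0, 0, 0, 0, 0, 0, 0, 0, 0, 0, 0, 1, 0, 0, 0, 0, 0, 0, 0, 0, 0, 0, 0, 0, 0, 0, 0, 0], [0, -4, -4, 4, -2, -1, 2, -2, 0, 2, 0, -4, 0, -2, 2, 2, 0, 1, -1, 11, 6, -6, -2, 1, -2, 0, 1]),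
    (12, [0, 0, 0, 0, 0, 0, 0, 0, 0, 0, 0, 0, 1, 0, -1, 0, 0, 1, 0, 0, 0, 0, 0, 0, 0, 0, 0, 0], [0, 2, 2, -6, 1, -5, -5, 0, 0, 1, 5, -2, 3, 0, -2, 0, 2, 3, 0, -6, 3, 5, 3, 2, 0, 0, 0]),
    (13, [0, 0, 0, 0, 0, 0, 0, 0, 0, 0, 0, 0, 0, 1, 0, 0, 0, 0, 0, 0, 0, 0, 0, 0, 0, 0, 0, 0], [0, -8, -8, 19, -4, 15, 16, 0, 0, -4, -16, 8, -8, 0, 4, 0, -8, -9, 0, 16, -10, -17, -7, -4, -1, -2, 0]),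
    (15, [0, 0, 0, 0, 0, 0, 0, 0, 0, 0, 0, 0, 0, 0, 0, 1, 0, -1, 0, 0, 0, 0, 0, 0, 0, 0, 0, 0], [0, -2, -2, 5, -1, 3, 4, 0, 0, -1, -4, 2, -2, 0, 1, 0, -2, -2, 0, 4, -3, -4, -2, -1, 0, 0, 0]),
    (16, [0, 0, 0, 0, 0, 0, 0, 0, 0, 0, 0, 0, 0, 0, 0, 0, 1, -1, 0, 0, 0, 0, 0, 0, 0, 0, 0, 0], [0, -2, -2, -5, -1, -10, -6, 1, 0, -2, 2, 3, 1, 1, -3, -1, 1, 0, 1, -14, -5, 10, 4, 2, 1, 0, 0]),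
    (18, [0, 0, 0, 0, 0, 0, 0, 0, 0, 0, 0, 0, 0, 0, 0, 0, 0, 0, 1, 0, 0, 0, 0, 0, 0, 0, 0, 0], [0, 0, 0, -2, 0, -3, -2, 0, 0, 0, 2, -1, 2, 0, -1, 0, 1, 1, 0, -2, 1, 2, 1, 1, 0, 0, 0]),
    (19, [0, 0, 0, 0, 0, 0, 0, 0, 0, 0, 0, 0, 0, 0, 0, 0, 0, 0, 0, 1, 0, 0, 0, 0, 0, 0, 0, 0], [0, 2, 2, -1, 1, 1, 0, 0, 0, 1, 2, -2, 1, 0, 0, 0, 1, 1, 0, 2, 2, -1, 0, 0, 0, 0, 0]),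
    (20, [0, 0, 0, 0, 0, 0, 0, 0, 0, 0, 0, 0, 0, 0, 0, 0, 0, 0, 0, 0, 1, 0, 0, 0, 0, 0, 0, 0], [0, 10, 10, -10, 5, 2, -5, 4, 1, -4, 2, 7, 1, 4, -5, -4, 1, -1, 2, -23, -11, 13, 5, -2, 4, 0, -2]),
    (21, [0, 0, 0, 0, 0, 0, 0, 0, 0, 0, 0, 0, 0, 0, 0, 0, 0, 0, 0, 0, 0, 1, 0, 0, 0, 0, 0, 0], [0, 0, 0, 17, 0, 23, 17, -2, 0, 2, -10, -3, -5, -2, 7, 2, -5, -4, -1, 34, 5, -25, -10, -5, -2, 0, 0]),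
    (22, [0, 0, 0, 0, 0, 0, 0, 0, 0, 0, 0, 0, 0, 0, 0, 0, 0, 0, 0, 0, 0, 0, 1, 0, 0, 0, 0, 0], [0, 0, 0, 1, 0, 1, 1, 0, 0, 0, 0, 0, 0, 0, 0, 0, 0, 0, 0, 1, 0, -1, 0, 0, 0, 0, 0]),
    (23, [0, 0, 0, 0, 0, 0, 0, 0, 0, 0, 0, 0, 0, 0, 0, 0, 0, 0, 0, 0, 0, 0, 0, 1, 0, 0, 0, 0], [0, 2, 2, 0, 1, 3, 1, 0, 0, 0, 0, 0, 0, 0, 0, 0, 0, 0, 0, 1, 0, -1, 0, 0, 0, 0, 0]),
    (24, [0, 0, 0, 0, 0, 0, 0, 0, 0, 0, 0, 0, 0, 0, 0, 0, 0, 0, 0, 0, 0, 0, 0, 0, 1, 0, 0, 0], [0, 0, 0, 0, 0, 1, 0, 0, 0, 0, 0, 0, 0, 0, 0, 0, 0, 0, 0, 0, 0, 0, 0, 0, 0, 0, 0]),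
    (25, [0, 0, 0, 0, 0, 0, 0, 0, 0, 0, 0, 0, 0, 0, 0, 0, 0, 0, 0, 0, 0, 0, 0, 0, 0, 1, 0, 0], [0, 0, 0, 5, 0, 7, 5, 0, 0, 0, -4, 1, -2, 0, 2, 0, -2, -2, 0, 7, -1, -6, -3, -2, 0, 0, 0]),
    (26, [0, 0, 0, 0, 0, 0, 0, 0, 0, 0, 0, 0, 0, 0, 0, 0, 0, 0, 0, 0, 0, 0, 0, 0, 0, 0, 1, 0], [0, 0, 0, -1, 0, -1, -1, 0, 0, 0, 0, 0, 0, 0, 0, 0, 0, 0, 0, -1, 0, 2, 0, 0, 0, 0, 0]),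
    (27, [0, 0, 0, 0, 0, 0, 0, 0, 0, 0, 0, 0, 0, 0, 0, 0, 0, 0, 0, 0, 0, 0, 0, 0, 0, 0, 0, 1], [0, 8, 8, 4, 4, 18, 8, 2, 1, -2, -6, 5, -3, 2, 1, -2, -3, -4, 1, 3, -7, -6, -3, -5, 2, 0, -2])]
  T := [([], []),
    ([2, 6], [0, 0, 0, 0, 0, 0, 0, 1, 0, 0, 0, 0, 0, 0, 0, 0, 0, 1, 0, 0, 0, 0, 0, 0, 0, 0, 0, 0]),
    ([6], [0, 0, 0, 0, 0, 0, 0, 0, 0, 0, 0, 0, 0, 0, 0, 0, 0, 1, 0, 0, 0, 0, 0, 0, 0, 0, 0, 0]),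
    ([4, 5], [0, 0, 0, 0, 0, 0, 0, 0, 0, 0, 1, 0, 0, 0, 0, 0, 0, -1, 0, 0, 0, 0, 0, 0, 0, 0, 0, 0]),
    ([2], [0, 0, 0, 0, 0, 0, 0, 1, 0, 0, 0, 0, 0, 0, 0, 0, 0, 0, 0, 0, 0, 0, 0, 0, 0, 0, 0, 0]),
    ([5, 6], [0, 0, 0, 0, 0, 0, 0, 0, 0, 0, 0, 0, 0, 0, 1, 0, 0, 0, 0, 0, 0, 0, 0, 0, 0, 0, 0, 0]),
    ([5], [0, 0, 0, 0, 0, 0, 0, 0, 0, 0, 0, 0, 0, 0, 1, 0, 0, -1, 0, 0, 0, 0, 0, 0, 0, 0, 0, 0]),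
    ([4, 5, 6], [0, 0, 0, 0, 0, 0, 0, 0, 0, 0, 1, 0, 0, 0, 0, 0, 0, 0, 0, 0, 0, 0, 0, 0, 0, 0, 0, 0]),
    ([2, 4, 5, 6], [0, 0, 0, 0, 0, 0, 0, 1, 0, 0, 1, 0, 0, 0, 0, 0, 0, 0, 0, 0, 0, 0, 0, 0, 0, 0, 0, 0]),
    ([2, 5], [0, 0, 0, 0, 0, 0, 0, 1, 0, 0, 0, 0, 0, 0, 1, 0, 0, -1, 0, 0, 0, 0, 0, 0, 0, 0, 0, 0]),
    ([2, 5, 6], [0, 0, 0, 0, 0, 0, 0, 1, 0, 0, 0, 0, 0, 0, 1, 0, 0, 0, 0, 0, 0, 0, 0, 0, 0, 0, 0, 0]),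
    ([2, 4, 5], [0, 0, 0, 0, 0, 0, 0, 1, 0, 0, 1, 0, 0, 0, 0, 0, 0, -1, 0, 0, 0, 0, 0, 0, 0, 0, 0, 0]),
    ([4, 6], [0, 0, 0, 0, 0, 0, 0, 0, 0, 0, 1, 0, 0, 0, -1, 0, 0, 1, 0, 0, 0, 0, 0, 0, 0, 0, 0, 0]),
    ([4], [0, 0, 0, 0, 0, 0, 0, 0, 0, 0, 1, 0, 0, 0, -1, 0, 0, 0, 0, 0, 0, 0, 0, 0, 0, 0, 0, 0]),
    ([2, 4], [0, 0, 0, 0, 0, 0, 0, 1, 0, 0, 1, 0, 0, 0, -1, 0, 0, 0, 0, 0, 0, 0, 0, 0, 0, 0, 0, 0]),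
    ([2, 4, 6], [0, 0, 0, 0, 0, 0, 0, 1, 0, 0, 1, 0, 0, 0, -1, 0, 0, 1, 0, 0, 0, 0, 0, 0, 0, 0, 0, 0])]
  elems := [[], [6], [5], [5, 6], [4], [4, 6],
    [4, 5], [4, 5, 6], [3], [3, 6], [3, 5], [3, 5, 6],
    [3, 4], [3, 4, 6], [3, 4, 5], [3, 4, 5, 6], [2], [2, 6],
    [2, 5], [2, 5, 6], [2, 4], [2, 4, 6], [2, 4, 5], [2, 4, 5, 6],
    [2, 3], [2, 3, 6], [2, 3, 5], [2, 3, 5, 6], [2, 3, 4], [2, 3, 4, 6],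
    [2, 3, 4, 5], [2, 3, 4, 5, 6], [1], [1, 6], [1, 5], [1, 5, 6],
    [1, 4], [1, 4, 6], [1, 4, 5], [1, 4, 5, 6], [1, 3], [1, 3, 6],
    [1, 3, 5], [1, 3, 5, 6], [1, 3, 4], [1, 3, 4, 6], [1, 3, 4, 5], [1, 3, 4, 5, 6],
    [1, 2], [1, 2, 6], [1, 2, 5], [1, 2, 5, 6], [1, 2, 4], [1, 2, 4, 6],
    [1, 2, 4, 5], [1, 2, 4, 5, 6], [1, 2, 3], [1, 2, 3, 6], [1, 2, 3, 5], [1, 2, 3, 5, 6],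
    [1, 2, 3, 4], [1, 2, 3, 4, 6], [1, 2, 3, 4, 5], [1, 2, 3, 4, 5, 6], [0], [0, 6],
    [0, 5], [0, 5, 6], [0, 4], [0, 4, 6], [0, 4, 5], [0, 4, 5, 6],
    [0, 3], [0, 3, 6], [0, 3, 5], [0, 3, 5, 6], [0, 3, 4], [0, 3, 4, 6],
    [0, 3, 4, 5], [0, 3, 4, 5, 6], [0, 2], [0, 2, 6], [0, 2, 5], [0, 2, 5, 6],
    [0, 2, 4], [0, 2, 4, 6], [0, 2, 4, 5], [0, 2, 4, 5, 6], [0, 2, 3], [0, 2, 3, 6],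
    [0, 2, 3, 5], [0, 2, 3, 5, 6], [0, 2, 3, 4], [0, 2, 3, 4, 6], [0, 2, 3, 4, 5], [0, 2, 3, 4, 5, 6],
    [0, 1], [0, 1, 6], [0, 1, 5], [0, 1, 5, 6], [0, 1, 4], [0, 1, 4, 6],
    [0, 1, 4, 5], [0, 1, 4, 5, 6], [0, 1, 3], [0, 1, 3, 6], [0, 1, 3, 5], [0, 1, 3, 5, 6],
    [0, 1, 3, 4], [0, 1, 3, 4, 6], [0, 1, 3, 4, 5], [0, 1, 3, 4, 5, 6], [0, 1, 2], [0, 1, 2, 6],
    [0, 1, 2, 5], [0, 1, 2, 5, 6], [0, 1, 2, 4], [0, 1, 2, 4, 6], [0, 1, 2, 4, 5], [0, 1, 2, 4, 5, 6],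
    [0, 1, 2, 3], [0, 1, 2, 3, 6], [0, 1, 2, 3, 5], [0, 1, 2, 3, 5, 6], [0, 1, 2, 3, 4], [0, 1, 2, 3, 4, 6],
    [0, 1, 2, 3, 4, 5], [0, 1, 2, 3, 4, 5, 6]]
  order := 50232960
  p := 2

/-- Words in the defining generators. -/
def threeWords : List (List ℕ) := [[22],
  [23],
  [9],
  [2],
  [6]]

/-- The letters. -/
def threeGens : List ℕ := [0x4001000010040800401002008100,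
  0x2200000008100400204010020080,
  0x20080200802008020080100400004010000000001,
  0x20080000802000020080000401000010040000401,
  0x20080200802008000000000000004010040100401]

/-- The certificate. -/
def three : PcCover.Cert where
  n := 5
  rules := [([0, 0, 0], [3, 4, 4]), ([1, 1, 1], [3, 4]), ([2, 2, 2], []), ([3, 3, 3], []), ([4, 4, 4], []), ([1, 0], [0, 1, 2, 4]), ([2, 0], [0, 2, 3, 4]), ([2, 1], [1, 2, 3, 3, 4]), ([3, 0], [0, 3]), ([3, 1], [1, 3]), ([3, 2], [2, 3]), ([4, 0], [0, 4]), ([4, 1], [1, 4]), ([4, 2], [2, 4]), ([4, 3], [3, 4])]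
  rels := [.cons [0] 0,
    .cons [1] 0,
    .cons [1] 1,
    .cons [2] 0,
    .cons [2] 1,
    .cons [2] 5,
    .cons [3] 0,
    .cons [3] 1,
    .cons [3] 2,
    .cons [3] 5,
    .cons [3] 6,
    .cons [4] 0,
    .cons [1, 1] 5]
  cvec := [0, 0, 0, 0, 0, 0, 0, 0, -1, 0, 0, 0, 0, 0, 0]
  m := 3
  mcomb := [-15, 3, -18, -3, 3, -6, 9, 2, -6, -18, 32, 13, 3]
  basis := [(2, [0, 0, 1, 0, 0, 3, -6, 3, 0, 0, 0, 0, 0, 0, 0], [57, 21, -1, 6, -1, -1, 3, 12, -1, -8, -22, -25, -13, -2]),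
    (3, [0, 0, 0, 1, 0, 0, -3, 3, 0, 0, 0, 0, 0, 0, 0], [-6, 2, 0, -4, -1, 1, -1, -1, 0, 1, 3, 0, 0, 0]),
    (4, [0, 0, 0, 0, 1, 0, 6, -3, 0, 0, 0, 0, 0, 0, 0], [-9, -6, 0, 6, 2, -1, 3, -5, 0, -1, -2, 1, 1, 0]),
    (8, [0, 0, 0, 0, 0, 0, 0, 0, 1, 0, 0, 0, 0, 0, 0], [-1, 0, 0, 0, 0, 0, 0, 0, 0, 0, 0, 0, 0, 0]),
    (9, [0, 0, 0, 0, 0, 0, 0, 0, 0, 1, 0, 0, 0, 0, 0], [67, 18, -2, 12, 2, -2, 4, 13, -1, -9, -27, -26, -14, -2]),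
    (10, [0, 0, 0, 0, 0, 0, 0, 0, 0, 0, 1, 0, 0, 0, 0], [-3, 0, 0, 0, 0, 0, 0, -1, 0, 1, 2, 0, 0, 0]),
    (11, [0, 0, 0, 0, 0, 0, 0, 0, 0, 0, 0, 1, 0, 0, 0], [98, 26, -3, 18, 3, -3, 6, 19, -2, -13, -39, -38, -20, -3]),
    (12, [0, 0, 0, 0, 0, 0, 0, 0, 0, 0, 0, 0, 1, 0, 0], [-67, -18, 2, -11, -2, 2, -4, -13, 1, 9, 27, 26, 14, 2]),
    (13, [0, 0, 0, 0, 0, 0, 0, 0, 0, 0, 0, 0, 0, 1, 0], [3, -1, 0, -1, 0, 0, -1, 2, 0, 0, 0, 1, 1, 0]),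
    (14, [0, 0, 0, 0, 0, 0, 0, 0, 0, 0, 0, 0, 0, 0, 1], [0, 0, 0, 0, 0, 0, 0, 0, 0, 0, 0, 1, 0, 0])]
  T := [([], []),
    ([2, 2, 4, 4], [0, 0, 0, 0, 0, 2, 0, 0, 0, 0, 0, 0, 0, 0, 0]),
    ([3, 3, 4, 4], [0, 0, 0, 0, 0, 0, 2, 0, 0, 0, 0, 0, 0, 0, 0]),
    ([2, 4], [0, 0, 0, 0, 0, 1, 0, 0, 0, 0, 0, 0, 0, 0, 0]),
    ([3, 4, 4], [0, 0, 0, 0, 0, 0, 3, -1, 0, 0, 0, 0, 0, 0, 0]),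
    ([3, 4], [0, 0, 0, 0, 0, 0, 1, 0, 0, 0, 0, 0, 0, 0, 0]),
    ([3, 3, 4], [0, 0, 0, 0, 0, 0, 0, 1, 0, 0, 0, 0, 0, 0, 0]),
    ([2, 2, 3, 3, 4], [0, 0, 0, 0, 0, 2, -4, 3, 0, 0, 0, 0, 0, 0, 0]),
    ([2, 2, 3, 4], [0, 0, 0, 0, 0, 2, -3, 2, 0, 0, 0, 0, 0, 0, 0]),
    ([2, 2, 3], [0, 0, 0, 0, 0, 2, -5, 3, 0, 0, 0, 0, 0, 0, 0]),
    ([2, 2, 3, 3], [0, 0, 0, 0, 0, 2, -6, 4, 0, 0, 0, 0, 0, 0, 0]),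
    ([2, 3, 3], [0, 0, 0, 0, 0, 1, -4, 3, 0, 0, 0, 0, 0, 0, 0]),
    ([4], [0, 0, 0, 0, 0, 0, 2, -1, 0, 0, 0, 0, 0, 0, 0]),
    ([3], [0, 0, 0, 0, 0, 0, -1, 1, 0, 0, 0, 0, 0, 0, 0]),
    ([2, 2, 3, 4, 4], [0, 0, 0, 0, 0, 2, -1, 1, 0, 0, 0, 0, 0, 0, 0]),
    ([2, 3], [0, 0, 0, 0, 0, 1, -3, 2, 0, 0, 0, 0, 0, 0, 0]),
    ([2, 3, 4, 4], [0, 0, 0, 0, 0, 1, 1, 0, 0, 0, 0, 0, 0, 0, 0]),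
    ([2, 3, 3, 4, 4], [0, 0, 0, 0, 0, 1, 0, 1, 0, 0, 0, 0, 0, 0, 0]),
    ([3, 3], [0, 0, 0, 0, 0, 0, -2, 2, 0, 0, 0, 0, 0, 0, 0]),
    ([2, 2, 3, 3, 4, 4], [0, 0, 0, 0, 0, 2, -2, 2, 0, 0, 0, 0, 0, 0, 0]),
    ([2, 4, 4], [0, 0, 0, 0, 0, 1, 2, -1, 0, 0, 0, 0, 0, 0, 0]),
    ([4, 4], [0, 0, 0, 0, 0, 0, 4, -2, 0, 0, 0, 0, 0, 0, 0]),
    ([2, 2, 4], [0, 0, 0, 0, 0, 2, -2, 1, 0, 0, 0, 0, 0, 0, 0]),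
    ([2, 3, 3, 4], [0, 0, 0, 0, 0, 1, -2, 2, 0, 0, 0, 0, 0, 0, 0]),
    ([2, 3, 4], [0, 0, 0, 0, 0, 1, -1, 1, 0, 0, 0, 0, 0, 0, 0]),
    ([2, 2], [0, 0, 0, 0, 0, 2, -4, 2, 0, 0, 0, 0, 0, 0, 0]),
    ([2], [0, 0, 0, 0, 0, 1, -2, 1, 0, 0, 0, 0, 0, 0, 0])]
  elems := [[], [4], [4, 4], [3], [3, 4], [3, 4, 4],
    [3, 3], [3, 3, 4], [3, 3, 4, 4], [2], [2, 4], [2, 4, 4],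
    [2, 3], [2, 3, 4], [2, 3, 4, 4], [2, 3, 3], [2, 3, 3, 4], [2, 3, 3, 4, 4],
    [2, 2], [2, 2, 4], [2, 2, 4, 4], [2, 2, 3], [2, 2, 3, 4], [2, 2, 3, 4, 4],
    [2, 2, 3, 3], [2, 2, 3, 3, 4], [2, 2, 3, 3, 4, 4], [1], [1, 4], [1, 4, 4],
    [1, 3], [1, 3, 4], [1, 3, 4, 4], [1, 3, 3], [1, 3, 3, 4], [1, 3, 3, 4, 4],
    [1, 2], [1, 2, 4], [1, 2, 4, 4], [1, 2, 3], [1, 2, 3, 4], [1, 2, 3, 4, 4],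
    [1, 2, 3, 3], [1, 2, 3, 3, 4], [1, 2, 3, 3, 4, 4], [1, 2, 2], [1, 2, 2, 4], [1, 2, 2, 4, 4],
    [1, 2, 2, 3], [1, 2, 2, 3, 4], [1, 2, 2, 3, 4, 4], [1, 2, 2, 3, 3], [1, 2, 2, 3, 3, 4], [1, 2, 2, 3, 3, 4, 4],
    [1, 1], [1, 1, 4], [1, 1, 4, 4], [1, 1, 3], [1, 1, 3, 4], [1, 1, 3, 4, 4],
    [1, 1, 3, 3], [1, 1, 3, 3, 4], [1, 1, 3, 3, 4, 4], [1, 1, 2], [1, 1, 2, 4], [1, 1, 2, 4, 4],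
    [1, 1, 2, 3], [1, 1, 2, 3, 4], [1, 1, 2, 3, 4, 4], [1, 1, 2, 3, 3], [1, 1, 2, 3, 3, 4], [1, 1, 2, 3, 3, 4, 4],
    [1, 1, 2, 2], [1, 1, 2, 2, 4], [1, 1, 2, 2, 4, 4], [1, 1, 2, 2, 3], [1, 1, 2, 2, 3, 4], [1, 1, 2, 2, 3, 4, 4],
    [1, 1, 2, 2, 3, 3], [1, 1, 2, 2, 3, 3, 4], [1, 1, 2, 2, 3, 3, 4, 4], [0], [0, 4], [0, 4, 4],
    [0, 3], [0, 3, 4], [0, 3, 4, 4], [0, 3, 3], [0, 3, 3, 4], [0, 3, 3, 4, 4],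
    [0, 2], [0, 2, 4], [0, 2, 4, 4], [0, 2, 3], [0, 2, 3, 4], [0, 2, 3, 4, 4],
    [0, 2, 3, 3], [0, 2, 3, 3, 4], [0, 2, 3, 3, 4, 4], [0, 2, 2], [0, 2, 2, 4], [0, 2, 2, 4, 4],
    [0, 2, 2, 3], [0, 2, 2, 3, 4], [0, 2, 2, 3, 4, 4], [0, 2, 2, 3, 3], [0, 2, 2, 3, 3, 4], [0, 2, 2, 3, 3, 4, 4],
    [0, 1], [0, 1, 4], [0, 1, 4, 4], [0, 1, 3], [0, 1, 3, 4], [0, 1, 3, 4, 4],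
    [0, 1, 3, 3], [0, 1, 3, 3, 4], [0, 1, 3, 3, 4, 4], [0, 1, 2], [0, 1, 2, 4], [0, 1, 2, 4, 4],
    [0, 1, 2, 3], [0, 1, 2, 3, 4], [0, 1, 2, 3, 4, 4], [0, 1, 2, 3, 3], [0, 1, 2, 3, 3, 4], [0, 1, 2, 3, 3, 4, 4],
    [0, 1, 2, 2], [0, 1, 2, 2, 4], [0, 1, 2, 2, 4, 4], [0, 1, 2, 2, 3], [0, 1, 2, 2, 3, 4], [0, 1, 2, 2, 3, 4, 4],
    [0, 1, 2, 2, 3, 3], [0, 1, 2, 2, 3, 3, 4], [0, 1, 2, 2, 3, 3, 4, 4], [0, 1, 1], [0, 1, 1, 4], [0, 1, 1, 4, 4],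
    [0, 1, 1, 3], [0, 1, 1, 3, 4], [0, 1, 1, 3, 4, 4], [0, 1, 1, 3, 3], [0, 1, 1, 3, 3, 4], [0, 1, 1, 3, 3, 4, 4],
    [0, 1, 1, 2], [0, 1, 1, 2, 4], [0, 1, 1, 2, 4, 4], [0, 1, 1, 2, 3], [0, 1, 1, 2, 3, 4], [0, 1, 1, 2, 3, 4, 4],
    [0, 1, 1, 2, 3, 3], [0, 1, 1, 2, 3, 3, 4], [0, 1, 1, 2, 3, 3, 4, 4], [0, 1, 1, 2, 2], [0, 1, 1, 2, 2, 4], [0, 1, 1, 2, 2, 4, 4],
    [0, 1, 1, 2, 2, 3], [0, 1, 1, 2, 2, 3, 4], [0, 1, 1, 2, 2, 3, 4, 4], [0, 1, 1, 2, 2, 3, 3], [0, 1, 1, 2, 2, 3, 3, 4], [0, 1, 1, 2, 2, 3, 3, 4, 4],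
    [0, 0], [0, 0, 4], [0, 0, 4, 4], [0, 0, 3], [0, 0, 3, 4], [0, 0, 3, 4, 4],
    [0, 0, 3, 3], [0, 0, 3, 3, 4], [0, 0, 3, 3, 4, 4], [0, 0, 2], [0, 0, 2, 4], [0, 0, 2, 4, 4],
    [0, 0, 2, 3], [0, 0, 2, 3, 4], [0, 0, 2, 3, 4, 4], [0, 0, 2, 3, 3], [0, 0, 2, 3, 3, 4], [0, 0, 2, 3, 3, 4, 4],
    [0, 0, 2, 2], [0, 0, 2, 2, 4], [0, 0, 2, 2, 4, 4], [0, 0, 2, 2, 3], [0, 0, 2, 2, 3, 4], [0, 0, 2, 2, 3, 4, 4],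
    [0, 0, 2, 2, 3, 3], [0, 0, 2, 2, 3, 3, 4], [0, 0, 2, 2, 3, 3, 4, 4], [0, 0, 1], [0, 0, 1, 4], [0, 0, 1, 4, 4],
    [0, 0, 1, 3], [0, 0, 1, 3, 4], [0, 0, 1, 3, 4, 4], [0, 0, 1, 3, 3], [0, 0, 1, 3, 3, 4], [0, 0, 1, 3, 3, 4, 4],
    [0, 0, 1, 2], [0, 0, 1, 2, 4], [0, 0, 1, 2, 4, 4], [0, 0, 1, 2, 3], [0, 0, 1, 2, 3, 4], [0, 0, 1, 2, 3, 4, 4],
    [0, 0, 1, 2, 3, 3], [0, 0, 1, 2, 3, 3, 4], [0, 0, 1, 2, 3, 3, 4, 4], [0, 0, 1, 2, 2], [0, 0, 1, 2, 2, 4], [0, 0, 1, 2, 2, 4, 4],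
    [0, 0, 1, 2, 2, 3], [0, 0, 1, 2, 2, 3, 4], [0, 0, 1, 2, 2, 3, 4, 4], [0, 0, 1, 2, 2, 3, 3], [0, 0, 1, 2, 2, 3, 3, 4], [0, 0, 1, 2, 2, 3, 3, 4, 4],
    [0, 0, 1, 1], [0, 0, 1, 1, 4], [0, 0, 1, 1, 4, 4], [0, 0, 1, 1, 3], [0, 0, 1, 1, 3, 4], [0, 0, 1, 1, 3, 4, 4],
    [0, 0, 1, 1, 3, 3], [0, 0, 1, 1, 3, 3, 4], [0, 0, 1, 1, 3, 3, 4, 4], [0, 0, 1, 1, 2], [0, 0, 1, 1, 2, 4], [0, 0, 1, 1, 2, 4, 4],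
    [0, 0, 1, 1, 2, 3], [0, 0, 1, 1, 2, 3, 4], [0, 0, 1, 1, 2, 3, 4, 4], [0, 0, 1, 1, 2, 3, 3], [0, 0, 1, 1, 2, 3, 3, 4], [0, 0, 1, 1, 2, 3, 3, 4, 4],
    [0, 0, 1, 1, 2, 2], [0, 0, 1, 1, 2, 2, 4], [0, 0, 1, 1, 2, 2, 4, 4], [0, 0, 1, 1, 2, 2, 3], [0, 0, 1, 1, 2, 2, 3, 4], [0, 0, 1, 1, 2, 2, 3, 4, 4],
    [0, 0, 1, 1, 2, 2, 3, 3], [0, 0, 1, 1, 2, 2, 3, 3, 4], [0, 0, 1, 1, 2, 2, 3, 3, 4, 4]]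
  order := 50232960
  p := 3

end Cfsg.Agent.MultiplierJThree.Data
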