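/-
The checks of the certificates for the multiplier of J₃.

Main results (namespace `Cfsg.Agent.MultiplierJThree`): `two_letters`, `three_letters`, `two_cert`, `three_cert`.
-/
import Cfsg.Agent.Lib.MultiplierJThree.Words
import Cfsg.Agent.Lib.MultiplierJThree.Data

set_option autoImplicit false
set_option maxRecDepth 100000
set_option Elab.async false

namespace Cfsg.Agent.MultiplierJThree

open Cfsg.Agent.PcCover

theorem two_letters : lettersOk Data.twoGens Data.twoWords = true := by decide +kernel
theorem three_letters : lettersOk Data.threeGens Data.threeWords = true := by decide +kernel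

theorem two_rules : (Data.two.rules.all fun r => eqWord Data.twoGens r.1 r.2) = true := by decide +kernel
theorem two_rels : Data.two.rels.all (Data.two.relOk (eqWord Data.twoGens)) = true := by decide +kernel
theorem two_mc : zeroV (subV (smulV (Data.two.m : ℤ) Data.two.cvec)
    (comb Data.two.mcomb (Data.two.rels.map Data.two.relVec))) = true := by decide +kernel
theorem two_basis : (Data.two.basis.all fun b => zeroV (subV b.2.1
    (comb b.2.2 (Data.two.cvec :: Data.two.rels.map Data.two.relVec)))) = true := by decide +kernel
theorem two_one : Data.two.T.contains ([], []) = true := by decide +kernel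


theorem two_mul : (Data.two.T.all fun t => Data.two.T.all fun t' =>
    Data.two.inT (t.1 ++ t'.1) [] (addV t.2 t'.2)) = true := by decide +kernel
theorem two_conj : ((List.range Data.two.n).all fun i => Data.two.T.all fun t =>
    Data.two.T.any fun t' =>
      (collect Data.two.rules (i :: t.1)).1 == (collect Data.two.rules (t'.1 ++ [i])).1 &&
      Data.two.inC (subV (addV t.2 (collect Data.two.rules (i :: t.1)).2)
        (addV t'.2 (collect Data.two.rules (t'.1 ++ [i])).2))) = true := by decide +kernel
theorem two_comm : (((List.range Data.two.n).all fun x => (List.range Data.two.n).all fun y =>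
      Data.two.inT [x, y] [y, x] []) &&
    (Data.two.T.all fun t => !eqWord Data.twoGens t.1 [] || (t.1 == [] && zeroV t.2)) &&
    Data.two.elems.contains [] &&
    (Data.two.elems.all fun l => l.all (fun i => decide (i < Data.two.n)))) = true := by decide +kernel
theorem two_closed : (Data.two.elems.all fun l => (List.range Data.two.n).all fun i =>
    Data.two.elems.contains (collect Data.two.rules (l ++ [i])).1) = true := by decide +kernel
theorem two_order : (Data.two.order % Data.two.elems.length == 0 &&
    !(Data.two.order / Data.two.elems.length % Data.two.p == 0)) = true := by decide +kernel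

theorem three_rules : (Data.three.rules.all fun r => eqWord Data.threeGens r.1 r.2) = true := by decide +kernel
theorem three_rels : Data.three.rels.all (Data.three.relOk (eqWord Data.threeGens)) = true := by decide +kernel
theorem three_mc : zeroV (subV (smulV (Data.three.m : ℤ) Data.three.cvec)
    (comb Data.three.mcomb (Data.three.rels.map Data.three.relVec))) = true := by decide +kernel
theorem three_basis : (Data.three.basis.all fun b => zeroV (subV b.2.1
    (comb b.2.2 (Data.three.cvec :: Data.three.rels.map Data.three.relVec)))) = true := by decide +kernel
theorem three_one : Data.three.T.contains ([], []) = true := by decide +kernel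

theorem three_mul : (Data.three.T.all fun t => Data.three.T.all fun t' =>
    Data.three.inT (t.1 ++ t'.1) [] (addV t.2 t'.2)) = true := by decide +kernel
theorem three_conj : ((List.range Data.three.n).all fun i => Data.three.T.all fun t =>
    Data.three.T.any fun t' =>
      (collect Data.three.rules (i :: t.1)).1 == (collect Data.three.rules (t'.1 ++ [i])).1 &&
      Data.three.inC (subV (addV t.2 (collect Data.three.rules (i :: t.1)).2)
        (addV t'.2 (collect Data.three.rules (t'.1 ++ [i])).2))) = true := by decide +kernel
theorem three_comm : (((List.range Data.three.n).all fun x => (List.range Data.three.n).all fun y =>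
      Data.three.inT [x, y] [y, x] []) &&
    (Data.three.T.all fun t => !eqWord Data.threeGens t.1 [] || (t.1 == [] && zeroV t.2)) &&
    Data.three.elems.contains [] &&
    (Data.three.elems.all fun l => l.all (fun i => decide (i < Data.three.n)))) = true := by decide +kernel
theorem three_closed : (Data.three.elems.all fun l => (List.range Data.three.n).all fun i =>
    Data.three.elems.contains (collect Data.three.rules (l ++ [i])).1) = true := by decide +kernel
theorem three_order : (Data.three.order % Data.three.elems.length == 0 &&
    !(Data.three.order / Data.three.elems.length % Data.three.p == 0)) = true := by decide +kernel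

theorem two_nodup : ((List.range Data.two.elems.length).all fun i => (List.range i).all fun j =>
    !eqWord Data.twoGens (Data.two.elems.getD i []) (Data.two.elems.getD j [])) = true := by decide +kernel

theorem two_cert : Data.two.check (eqWord Data.twoGens) = true := by
  have h4 := two_comm
  simp only [Bool.and_eq_true] at h4
  obtain ⟨⟨⟨b1, b2⟩, b3⟩, b4⟩ := h4
  rw [Cert.check]
  simp only [Bool.and_eq_true]
  exact ⟨⟨⟨⟨⟨⟨⟨⟨⟨⟨⟨⟨⟨two_rules, two_rels⟩, two_mc⟩, two_basis⟩, two_one⟩, two_mul⟩, two_conj⟩, b1⟩, b2⟩, b3⟩,
    b4⟩, two_closed⟩, two_nodup⟩, Bool.and_eq_true_iff.1 two_order⟩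

theorem three_nodup : ((List.range Data.three.elems.length).all fun i => (List.range i).all fun j =>
    !eqWord Data.threeGens (Data.three.elems.getD i []) (Data.three.elems.getD j [])) = true := by decide +kernel

theorem three_cert : Data.three.check (eqWord Data.threeGens) = true := by
  have h4 := three_comm
  simp only [Bool.and_eq_true] at h4
  obtain ⟨⟨⟨b1, b2⟩, b3⟩, b4⟩ := h4
  rw [Cert.check]
  simp only [Bool.and_eq_true]
  exact ⟨⟨⟨⟨⟨⟨⟨⟨⟨⟨⟨⟨⟨three_rules, three_rels⟩, three_mc⟩, three_basis⟩, three_one⟩, three_mul⟩, three_conj⟩, b1⟩, b2⟩, b3⟩,
    b4⟩, three_closed⟩, three_nodup⟩, Bool.and_eq_true_iff.1 three_order⟩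

end Cfsg.Agent.MultiplierJThree
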