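/-
The triple cover of J₃ is perfect.

Main results (namespace `Cfsg.Agent.MultiplierJThree`): `isStemExtension_threeJ3`.
-/
import Cfsg.Agent.Lib.MultiplierJThree.Words
import Cfsg.Prelude.Def_KGroupFacts

set_option autoImplicit false
set_option maxRecDepth 100000

open scoped commutatorElement MatrixGroups

namespace Cfsg.Agent.MultiplierJThree

open Cfsg.Agent.JankoThree
open Cfsg.Spor (F9)

theorem diag_shift_commutator :
    norm162 (mulN (genN 3) (genN 21)) = norm162 (smulN 2 (mulN (genN 21) (genN 3))) := by decide +kernel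

variable {F : Type*} [Field F] {ω : F} (h2 : (2 : F) = 0) (hω : ω ^ 2 + ω + 1 = 0)
include h2 hω

theorem center_le_commutator :
    Subgroup.center (Spor.threeJ3 F ω) ≤ commutator (Spor.threeJ3 F ω) := by
  obtain ⟨a, ha, hav⟩ := inD_genN h2 hω (show 3 < 43 by norm_num)
  obtain ⟨b, hb, hbv⟩ := inD_genN h2 hω (show 21 < 43 by norm_num)
  rw [← threeJ3_eq h2 hω] at ha hb
  have hab : a * b = scalarUnit hω * (b * a) := Units.ext (by
    rw [Units.val_mul, Units.val_mul, Units.val_mul, hav, hbv, ← toMat_mulN h2 hω, ← toMat_mulN h2 hω,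
      ← toMat_norm162 (ω := ω) (mulN (genN 3) (genN 21)), diag_shift_commutator, toMat_norm162,
      toMat_smulN h2 hω 2 _ (by simp), psi_two]
    show _ = (ω • (1 : Matrix F9 F9 F)) * _
    rw [Matrix.smul_mul, Matrix.one_mul])
  have hs : scalarUnit hω ∈ (commutator (Spor.threeJ3 F ω)).map (Spor.threeJ3 F ω).subtype := by
    refine ⟨⁅(⟨a, ha⟩ : Spor.threeJ3 F ω), ⟨b, hb⟩⁆,
      Subgroup.commutator_mem_commutator (Subgroup.mem_top _) (Subgroup.mem_top _), ?_⟩
    show ⁅a, b⁆ = scalarUnit hω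
    rw [commutatorElement_def, hab]
    group
  intro z hz
  have hm : (z : GL F9 F) ∈ (commutator (Spor.threeJ3 F ω)).map (Spor.threeJ3 F ω).subtype :=
    (Subgroup.zpowers_le.2 hs) (center_map h2 hω ▸ ⟨z, hz, rfl⟩)
  exact (Subgroup.mem_map_iff_mem (f := (Spor.threeJ3 F ω).subtype) Subtype.val_injective).1 hm

/-- The triple cover is a stem extension. -/
theorem isStemExtension_threeJ3 :
    Cfsg.IsStemExtension (QuotientGroup.mk' (Subgroup.center (Spor.threeJ3 F ω))) := by
  refine ⟨QuotientGroup.mk'_surjective _, (QuotientGroup.ker_mk' _).le, ?_⟩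
  rw [QuotientGroup.ker_mk']
  exact center_le_commutator h2 hω

end Cfsg.Agent.MultiplierJThree
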