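/-
Upper bound for the Schur multiplier of J₃.

Main results (namespace `Cfsg.Agent.MultiplierJThree`): `exists_surj_three`.
-/
import Cfsg.Agent.Lib.MultiplierJThree.Checks
import Cfsg.Agent.Lib.JankoThree.Krylov
import Cfsg.Agent.Lib.Schur.Basic
import Cfsg.Prelude.Def_KGroupFacts

set_option autoImplicit false
set_option linter.style.haveILetI false

open Cfsg

namespace Cfsg.Agent.MultiplierJThree

open Cfsg.Agent.JankoThree Cfsg.Agent.PcCover

universe u v

/-- The kernel of a stem extension of J₃ is an image of the cyclic group of order 3. -/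
theorem exists_surj_three {F : Type u} [Field F] {ω : F} (h2 : (2 : F) = 0) (hω : ω ^ 2 + ω + 1 = 0)
    {Γ : Type v} [Group Γ] [Finite Γ] (σ : Γ →* Spor.J3 F ω) (hσ : Cfsg.IsStemExtension σ) :
    ∃ π : Multiplicative (ZMod 3) →* σ.ker, Function.Surjective π := by
  classical
  have hcard : Nat.card (Spor.J3 F ω) = 50232960 := (simple_J3 h2 hω).2
  haveI : Finite (Spor.J3 F ω) := Nat.finite_of_card_ne_zero (by rw [hcard]; norm_num)
  obtain ⟨c₂, h2'⟩ := Cert.bound Data.two (letter h2 hω two_letters) _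
    (eqWord_iff h2 hω two_letters) hcard Nat.prime_two two_cert hσ
  obtain ⟨c₃, h3'⟩ := Cert.bound Data.three (letter h2 hω three_letters) _
    (eqWord_iff h2 hω three_letters) hcard Nat.prime_three three_cert hσ
  have h5 : ∀ p : ℕ, p.Prime → 5 ≤ p → ∀ (k : ℕ) (z : Γ), z ∈ σ.ker → z ^ p ^ k = 1 → z = 1 := by
    intro p hp hp5 k z hz hord
    haveI := Fact.mk hp
    have hns : ¬ p ^ 2 ∣ 50232960 := by
      intro hd
      have hpd : p ∣ 2 ^ 7 * (3 ^ 5 * (5 * (17 * 19))) :=
        (dvd_pow_self p two_ne_zero).trans (by norm_num; exact hd)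
      rcases hp.dvd_mul.1 hpd with h | h
      · have := Nat.le_of_dvd (by norm_num) (hp.dvd_of_dvd_pow h); omega
      rcases hp.dvd_mul.1 h with h | h
      · have := Nat.le_of_dvd (by norm_num) (hp.dvd_of_dvd_pow h); omega
      rcases hp.dvd_mul.1 h with h | h
      · rw [(Nat.prime_dvd_prime_iff_eq hp (by norm_num)).1 h] at hd; norm_num at hd
      rcases hp.dvd_mul.1 h with h | h
      · rw [(Nat.prime_dvd_prime_iff_eq hp (by norm_num)).1 h] at hd; norm_num at hd
      · rw [(Nat.prime_dvd_prime_iff_eq hp (by norm_num)).1 h] at hd; norm_num at hd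
    by_cases hd : p ∣ Nat.card (Spor.J3 F ω)
    · obtain ⟨r, hr⟩ := exists_prime_orderOf_dvd_card' (G := Spor.J3 F ω) p hd
      refine Schur.eq_one_of_cyclic hσ hp r (fun hdi => hns ?_) hz hord
      rw [← hcard, pow_two, ← (Subgroup.zpowers r).card_mul_index, Nat.card_zpowers, hr]
      exact Nat.mul_dvd_mul_left p hdi
    · refine Schur.eq_one_of_cyclic hσ hp 1 (fun hdi => hd ?_) hz hord
      rwa [Subgroup.zpowers_one_eq_bot, Subgroup.index_bot] at hdi
  letI : CommGroup σ.ker :=
    { (inferInstance : Group σ.ker) with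
      mul_comm := fun x y => Subtype.ext ((Subgroup.mem_center_iff.1 (hσ.2.1 y.2)) x.1) }
  let K : Subgroup Γ := Subgroup.zpowers c₃ ⊓ (powMonoidHom 3 : σ.ker →* σ.ker).ker.map σ.ker.subtype
  have hK : σ.ker ≤ K := Schur.le_of_primary fun p hp k w hw hwk => by
    by_cases hp3 : p = 3
    · subst hp3
      exact ⟨(h3' k w hw hwk).1, ⟨w, hw⟩, Subtype.ext (show w ^ 3 = 1 from (h3' k w hw hwk).2), rfl⟩
    have hw1 : w = 1 := by
      by_cases hp2 : p = 2
      · subst hp2
        exact (pow_one w).symm.trans (h2' k w hw hwk).2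
      have hp5 : 5 ≤ p := by
        have := hp.two_le
        by_contra hlt
        interval_cases p <;> first | omega | norm_num at hp
      exact h5 p hp hp5 k w hw hwk
    rw [hw1]; exact one_mem _
  haveI : IsCyclic σ.ker := Subgroup.isCyclic_of_le (hK.trans inf_le_left)
  have hexp : ∀ z : σ.ker, z ^ 3 = 1 := by
    intro z
    obtain ⟨w, hw, hwz⟩ := (hK z.2).2
    rw [← Subtype.ext hwz]
    exact hw
  obtain ⟨g, hg⟩ := IsCyclic.exists_generator (α := σ.ker)
  let f : ℤ →+ Additive σ.ker := zmultiplesHom _ (Additive.ofMul g)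
  have hf : f 3 = 0 := by
    show Additive.ofMul (g ^ (3 : ℤ)) = 0
    rw [show g ^ (3 : ℤ) = 1 from (zpow_natCast g 3).trans (hexp _)]
    rfl
  refine ⟨AddMonoidHom.toMultiplicativeLeft (ZMod.lift 3 ⟨f, hf⟩), fun x => ?_⟩
  obtain ⟨i, hi⟩ := Subgroup.mem_zpowers_iff.1 (hg x)
  refine ⟨Multiplicative.ofAdd (i : ZMod 3), ?_⟩
  show Additive.toMul (ZMod.lift 3 ⟨f, hf⟩ (i : ZMod 3)) = x
  rw [ZMod.lift_coe]
  exact hi

end Cfsg.Agent.MultiplierJThree
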